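import Groth.Agent.Stk19.AlgSt.InertiaSep
import Groth.Agent.Stk19b.Boot.Corollaries
import Groth.Agent.S10649

/-! Inertia relative to a morphism to a space; finiteness from separatedness. -/

set_option autoImplicit false
set_option backward.isDefEq.respectTransparency false
set_option backward.isDefEq.respectTransparency.types false

universe u

open CategoryTheory CategoryTheory.Limits AlgebraicGeometry Opposite FibCat Groth.Agent.Stk19

namespace Groth.Agent.Stk19b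

variable {S : Scheme.{u}} {𝒳 𝒴 : AlgSt.Cat S}

theorem map_eq_id_iff_base (f : 𝒳 ⥤ᵇ 𝒴) [𝒴.p.Faithful] {x : 𝒳.obj} (a : x ⟶ x) :
    f.map a = 𝟙 (f.obj x) ↔ 𝒳.p.map a = 𝟙 (𝒳.p.obj x) := by
  constructor
  · intro h
    have e := based_map f a
    rw [h, 𝒴.p.map_id] at e
    rw [← cancel_epi (eqToHom (f.w_obj x)), ← cancel_mono (eqToHom (f.w_obj x).symm), Category.assoc, ← e]
    simp
  · intro h
    apply 𝒴.p.map_injective
    rw [based_map f a, h]
    simp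

/-- The relative inertia over a category fibred in sets is the absolute inertia. -/
def inertiaToAbs (f : 𝒳 ⥤ᵇ 𝒴) [𝒴.p.Faithful] : inertia f ⥤ᵇ inertia (toSelf 𝒳) where
  toFunctor :=
    { obj := fun x => ⟨x.pt, x.aut, (map_eq_id_iff_base f x.aut.hom).1 x.map_aut⟩
      map := fun φ => ⟨φ.hom, φ.comm⟩ }
  w := rfl

theorem isEquivOver_inertiaToAbs (f : 𝒳 ⥤ᵇ 𝒴) [𝒴.p.Faithful] : IsEquivOver (inertiaToAbs f) :=
  EqvData.isEquivOver ⟨⟨fun k => ⟨⟨k.hom, k.comm⟩, rfl⟩⟩,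
    ⟨fun {s t} k k' h => InertiaObj.hom_ext (by exact congrArg (fun m : (inertiaToAbs f).obj s ⟶ (inertiaToAbs f).obj t => InertiaObj.Hom.hom m) h)⟩,
    fun z => ⟨⟨z.pt, z.aut, (map_eq_id_iff_base f z.aut.hom).2 z.map_aut⟩, Iso.refl _, IsHomLift.id rfl⟩⟩

theorem finite_inertia_of_separated {M : AlgSp.Sp S} (π : 𝒳 ⥤ᵇ AlgSt.ofSp M)
    (hsep : AlgSt.IsSeparatedMor π) (hqf : AlgSt.IsQuasiDMOver 𝒳) :
    AlgSt.RepByAlgSpWith AlgSp.IsFiniteMor (inertiaToBase (toSelf 𝒳)) := by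
  haveI : (AlgSt.ofSp M).p.Faithful := ⟨fun h => Stk.EltObj.hom_ext h⟩
  have h1 : AlgSt.RepByAlgSpWith AlgSp.IsProperMor (inertiaToBase (toSelf 𝒳)) :=
    (repByAlgSpWith_iff_of_square (f' := inertiaToBase π) (f := inertiaToBase (toSelf 𝒳)) (a := inertiaToAbs π)
      (b := BasedFunctor.id _) (isEquivOver_inertiaToAbs π) (isEquivOver_id _) (eqToIso (based_ext rfl))).1
      (inertia_with_of_diag hsep)
  have h2 : AlgSt.RepByAlgSpWith (AlgSp.LocP (@LocallyQuasiFinite ⊓ @LocallyOfFiniteType))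
      (inertiaToBase (toSelf 𝒳)) := inertia_with_of_diag hqf
  intro U y
  obtain ⟨F, e, he, hP⟩ := h1 U y
  obtain ⟨F', e', he', hQ⟩ := h2 U y
  have hQ' := repWith_any (respSrc_locP AlgSpLib.etLocal_lqf) he' hQ e he
  let Y : AlgSp.Space S := ⟨_, AlgSp.IsAlgSpace.yon_obj U⟩
  have h := (Groth.Agent.S10649.result (X := F) (Y := Y)
    (ObjectProperty.homMk (AlgSt.spMapOfOver (BasedFunctor.comp e (fpFst y (inertiaToBase (toSelf 𝒳))))))).out 1 0
  exact ⟨F, e, he, h.1 ⟨hP, hQ'⟩⟩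

end Groth.Agent.Stk19b
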