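import Groth.Agent.Stk19b.Inertia.AutSurj
import Groth.Agent.Stk19b.Inertia.FiniteOfSep
import Groth.Agent.Stk19b.Boot.CoverProp
import Groth.Agent.AlgSpLib.FpqcBaseAffine2

/-! Finiteness of the inertia is local for inertia-preserving etale maps. -/

set_option autoImplicit false
set_option backward.isDefEq.respectTransparency false
set_option backward.isDefEq.respectTransparency.types false

universe u

open CategoryTheory CategoryTheory.Limits AlgebraicGeometry Opposite FibCat Groth.Agent.Stk19 Groth.Agent.Desc19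

namespace Groth.Agent.Stk19b

variable {S : Scheme.{u}} {P : MorphismProperty (AlgSp.Sp S)} {𝒳 𝒴 𝒰 : AlgSt.Cat S}

/-- A property local on the base holds for a representable map if it holds after base change along
maps through which points lift fppf locally. -/
theorem with_of_lifting_family (hR : RespSrc P) (hP : AlgSp.IsLocalOnBase AlgSp.IsFppfCover P) {f : 𝒳 ⥤ᵇ 𝒴}
    (hf : AlgSt.RepByAlgSp1 f)
    (hloc : ∀ (U : Over S) (y : overCat U ⥤ᵇ 𝒴) (t : ↥U.left), ∃ (W : Over S) (c : W ⟶ U),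
      Flat c.left ∧ LocallyOfFinitePresentation c.left ∧ t ∈ Set.range c.left ∧
      ∃ (𝒵 : AlgSt.Cat S) (g : 𝒵 ⥤ᵇ 𝒴) (z : overCat W ⥤ᵇ 𝒵),
        Nonempty (BasedFunctor.comp z g ≅ BasedFunctor.comp (AlgSt.overMap c) y) ∧
        AlgSt.RepByAlgSpWith P (fpFst g f)) :
    AlgSt.RepByAlgSpWith P f := fun U y => by
  obtain ⟨F, e, he⟩ := hf U y
  have := id_full 𝒴
  have := id_faithful 𝒴
  let y' := BasedFunctor.comp (AlgSt.toOverCat U) y
  let E' : fp y f ⥤ᵇ fp y' f :=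
    fpMap (F' := y') (G' := f) (AlgSt.ofOverCat U) (BasedFunctor.id _) (BasedFunctor.id _)
      (Iso.refl _) (Iso.refl _)
  have hE' : IsEquivOver E' := isEquivOver_fpMap _ _ _ _ _ (isEquivOver_ofOverCat U) (isEquivOver_id _)
  obtain ⟨j⟩ := spHom_iso (BasedFunctor.comp (BasedFunctor.comp e (fpFst y f)) (AlgSt.ofOverCat U))
  refine ⟨F, e, he, ?_⟩
  set a := AlgSt.spMapOfOver (BasedFunctor.comp e (fpFst y f))
  choose W c hc₁ hc₂ hc₃ 𝒵 g z hi hg using hloc U y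
  refine of_local_family hP c hc₁ hc₂ (fun t => ⟨t, hc₃ t⟩) a fun t => ?_
  obtain ⟨i⟩ := hi t
  obtain ⟨E, hE, hEf, -⟩ := exists_congr (F := BasedFunctor.comp (z t) (g t)) (G := f) i (Iso.refl _)
  have hW := witness_transfer (isEquivOver_comp (isEquivOver_fpPaste (z t) (g t) f) hE)
    (q' := fpFst (BasedFunctor.comp (AlgSt.overMap (c t)) y) f)
    (eqToIso (show BasedFunctor.comp (fpPaste (z t) (g t) f) (BasedFunctor.comp E (fpFst _ f)) = _ by
      rw [hEf, fpPaste_fst])) (hg t (W t) (z t))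
  exact prop_of_chart hR (isAlgSpace_pullback_yon (Z := ⟨_, AlgSp.IsAlgSpace.yon_obj U⟩) a ((AlgSp.yon S).map (c t)))
    y' (e := BasedFunctor.comp e E') (isEquivOver_comp he hE') (a := a) j
    (IsPullback.of_hasPullback a ((AlgSp.yon S).map (c t))) (y := BasedFunctor.comp (AlgSt.overMap (c t)) y)
    (Iso.refl _) hW

theorem respSrc_finite : RespSrc (AlgSp.IsFiniteMor (S := S)) := fun X X' U _ _ σ a ha Z hZ g => by
  obtain ⟨W, i, fst, sq, h₁, h₂⟩ := ha hZ g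
  exact ⟨W, i, fst ≫ σ.inv, sq.of_iso (Iso.refl _) σ.symm (Iso.refl _) (Iso.refl _) (by simp) (by simp)
    (by simp) (by simp), h₁, h₂⟩

theorem finite_of_proper_lqf {f : 𝒳 ⥤ᵇ 𝒴} (h1 : AlgSt.RepByAlgSpWith AlgSp.IsProperMor f)
    (h2 : AlgSt.RepByAlgSpWith (AlgSp.LocP (@LocallyQuasiFinite ⊓ @LocallyOfFiniteType)) f) :
    AlgSt.RepByAlgSpWith AlgSp.IsFiniteMor f := fun U y => by
  obtain ⟨F, e, he, hP⟩ := h1 U y
  obtain ⟨F', e', he', hQ⟩ := h2 U y
  have hQ' := repWith_any (respSrc_locP AlgSpLib.etLocal_lqf) he' hQ e he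
  let Y : AlgSp.Space S := ⟨_, AlgSp.IsAlgSpace.yon_obj U⟩
  have h := (Groth.Agent.S10649.result (X := F) (Y := Y)
    (ObjectProperty.homMk (AlgSt.spMapOfOver (BasedFunctor.comp e (fpFst y f))))).out 1 0
  exact ⟨F, e, he, h.1 ⟨hP, hQ'⟩⟩

/-- The comparison of inertias along a functor. -/
def inertiaLift (h : 𝒰 ⥤ᵇ 𝒳) : inertia (toSelf 𝒰) ⥤ᵇ fp h (inertiaToBase (toSelf 𝒳)) :=
  let H : inertia (toSelf 𝒰) ⥤ᵇ inertia (toSelf 𝒳) :=
    { toFunctor :=
        { obj := fun s => ⟨h.obj s.pt, h.toFunctor.mapIso s.aut, by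
            show 𝒳.p.map (h.map s.aut.hom) = 𝟙 _
            rw [based_map h, inertia_aut_map]
            simp⟩
          map := fun {s t} φ => ⟨h.map φ.hom, by
            show h.map s.aut.hom ≫ h.map φ.hom = h.map φ.hom ≫ h.map t.aut.hom
            rw [← h.toFunctor.map_comp, φ.comm, h.toFunctor.map_comp]⟩
          map_id := fun s => InertiaObj.hom_ext (h.toFunctor.map_id _)
          map_comp := fun φ ψ => InertiaObj.hom_ext (h.toFunctor.map_comp _ _) }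
      w := by
        exact congrArg (fun F => InertiaObj.forget ⋙ F) h.w }
  fpLift (inertiaToBase (toSelf 𝒰)) H
    (Groth.Agent.Stk19.isoMk (fun _ => Iso.refl _) (fun s => IsHomLift.id rfl)
      (fun _ => (Category.comp_id _).trans (Category.id_comp _).symm))

theorem isEquivOver_inertiaLift (h : 𝒰 ⥤ᵇ 𝒳) [h.toFunctor.Faithful] (h𝒰 : IsFibGrpd 𝒰.p)
    (hl : ∀ (u : 𝒰.obj) (φ : h.obj u ⟶ h.obj u), 𝒳.p.map φ = 𝟙 _ → ∃ ψ : u ⟶ u, 𝒰.p.map ψ = 𝟙 _ ∧ h.map ψ = φ) :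
    IsEquivOver (inertiaLift h) := by
  have hid : ∀ s, ((inertiaLift h).obj s).obj.iso.hom = 𝟙 _ := fun s => rfl
  refine EqvData.isEquivOver ⟨⟨fun {s t} k => ?_⟩, ⟨fun {s t} k k' e => ?_⟩, fun z => ?_⟩
  · have w : h.map k.hom.fst ≫ ((inertiaLift h).obj t).obj.iso.hom =
        ((inertiaLift h).obj s).obj.iso.hom ≫ k.hom.snd.hom := k.hom.w
    rw [hid, hid] at w
    have w' : h.map k.hom.fst = k.hom.snd.hom := (Category.comp_id _).symm.trans (w.trans (Category.id_comp _))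
    have cm : h.map s.aut.hom ≫ k.hom.snd.hom = k.hom.snd.hom ≫ h.map t.aut.hom := k.hom.snd.comm
    rw [← w', ← h.toFunctor.map_comp, ← h.toFunctor.map_comp] at cm
    exact ⟨⟨k.hom.fst, h.toFunctor.map_injective cm⟩, fp_hom_ext rfl (InertiaObj.hom_ext w')⟩
  · exact InertiaObj.hom_ext (congrArg (fun m => m.hom.fst) e)
  · let u := z.obj.fst
    let i : h.obj u ≅ z.obj.snd.pt := z.obj.iso
    have hi : 𝒳.p.IsHomLift (𝟙 (𝒰.p.obj u)) i.hom := z.property
    obtain ⟨ψ, hψ₁, hψ₂⟩ := hl u (i.hom ≫ z.obj.snd.aut.hom ≫ i.inv) (by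
      rw [𝒳.p.map_comp, 𝒳.p.map_comp, inertia_aut_map, Category.id_comp, ← 𝒳.p.map_comp, i.hom_inv_id,
        𝒳.p.map_id])
    have : IsIso (h.map ψ) := by rw [hψ₂]; infer_instance
    have : IsIso (𝒰.p.map ψ) := by rw [hψ₁]; infer_instance
    have hiso : IsIso ψ := fibGrpd_isIso h𝒰 ψ
    let s : (inertia (toSelf 𝒰)).obj := ⟨u, asIso ψ, hψ₁⟩
    let K : h.obj u ≅ z.obj.snd.pt := i
    let J : ((inertiaLift h).obj s).obj.snd ≅ z.obj.snd :=
      { hom := ⟨i.hom, by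
          show h.map ψ ≫ i.hom = i.hom ≫ z.obj.snd.aut.hom
          rw [hψ₂]; simp⟩
        inv := ⟨i.inv, by
          show z.obj.snd.aut.hom ≫ i.inv = i.inv ≫ h.map ψ
          rw [hψ₂]; simp⟩
        hom_inv_id := InertiaObj.hom_ext i.hom_inv_id
        inv_hom_id := InertiaObj.hom_ext i.inv_hom_id }
    refine ⟨s, fpIsoMk (Iso.refl _) J ?_, fpIsoMk_vert _ _ _ (IsHomLift.id rfl)⟩
    show h.map (𝟙 u) ≫ i.hom = ((inertiaLift h).obj s).obj.iso.hom ≫ i.hom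
    rw [hid, h.toFunctor.map_id]; rfl

theorem finite_inertia_of_local (h𝒳 : IsFibGrpd 𝒳.p) (hqf : AlgSt.IsQuasiDMOver 𝒳)
    (hloc : ∀ x : AlgSt.Points 𝒳, ∃ (𝒰 : AlgSt.Cat S) (h : 𝒰 ⥤ᵇ 𝒳), IsFibGrpd 𝒰.p ∧
      x ∈ Set.range (AlgSt.Points.map h) ∧
      AlgSt.RepByAlgSpWith AlgSp.IsEtaleMor h ∧ AlgSt.IsSeparatedOver 𝒰 ∧
      ∀ (Ω : Type u) [Field Ω] [IsAlgClosed Ω] (t : Spec (CommRingCat.of Ω) ⟶ S) (u : 𝒰.p.Fiber (Over.mk t)),
        Function.Surjective (Gerb.autMap h u.1)) :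
    AlgSt.RepByAlgSpWith AlgSp.IsFiniteMor (inertiaToBase (toSelf 𝒳)) := by
  have h2 : AlgSt.RepByAlgSpWith (AlgSp.LocP (@LocallyQuasiFinite ⊓ @LocallyOfFiniteType))
      (inertiaToBase (toSelf 𝒳)) := inertia_with_of_diag hqf
  refine with_of_lifting_family respSrc_finite (isLocalOnBase_fppf_of_fpqc AlgSpLib.isLocalOnBase_fpqc_finite)
    (repByAlgSp1_of_with h2) fun U y t => ?_
  obtain ⟨𝒰, h, h𝒰, ⟨q, hq⟩, hh, hsep, hgeo⟩ := hloc (AlgSt.Points.ofChart y t)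
  have hrep := repByAlgSp1_of_with hh
  have := faithful_of_repByAlgSp1 h𝒰 h𝒳 hrep
  obtain ⟨w, hw, -⟩ := exists_points_fp h𝒰 h𝒳 (isFibGrpd_overCat U) h y
    (AlgSt.Points.ofChart (BasedFunctor.id _) t) q (by rw [← ofChart_eq_map, hq])
  obtain ⟨G, e, he, ha⟩ := hh U y
  set a := AlgSt.spMapOfOver (BasedFunctor.comp e (fpFst y h))
  obtain ⟨q', rfl⟩ := (points_bijective_of_equiv he).2 w
  obtain ⟨p, rfl⟩ := stPt_bijective.2 q'
  rw [← points_map_comp, map_toOver_stPt, ofChart_id] at hw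
  replace hw := stPt_bijective.1 ((points_bijective_of_equiv (isEquivOver_toOverCat U)).1 hw)
  obtain ⟨W, π, hπ, hπs⟩ := G.property.atlas
  obtain ⟨r, rfl⟩ := AlgSpLib.surjective_ofPt π hπs p
  obtain ⟨c, hc⟩ := (AlgSp.yon S).map_surjective (π ≫ a)
  have het : Etale c.left := (AlgSp.repWith_yon_map_iff @Etale c).1 (hc ▸ ha π hπ)
  refine ⟨W, c, inferInstance, inferInstance, ⟨r, ?_⟩, 𝒰, h, ?_⟩
  · apply (AlgSp.Points.schemeEquiv U).injective
    show AlgSp.Points.ofScheme U (c.left r) = AlgSp.Points.ofScheme U t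
    rw [← hw, AlgSp.Points.map_ofPt, ← hc, ← AlgSpLib.map_yon_map_ofScheme, AlgSp.Points.ofPt_eq_map_ofScheme]
  obtain ⟨z, hz⟩ := key' e π hc
  refine ⟨z, hz, ?_⟩
  have hdiag : AlgSt.RepByAlgSpWith (AlgSp.RepWith @IsOpenImmersion) (FibCat.diag h) :=
    diag_of_with pbStable_repWith hh (fun V Z b hb =>
      diag_of_locP_unram b fun _ _ u v k h₁ h₂ h₃ =>
        have : Etale k.left :=
          (AlgSpLib.isEtaleMor_iff_locP AlgSpLib.etLocal_etale V.property Z.property b).1 hb u v k h₁ h₂ h₃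
        ⟨inferInstance, inferInstance⟩)
  have hprop : AlgSt.RepByAlgSpWith AlgSp.IsProperMor (fpFst h (inertiaToBase (toSelf 𝒳))) :=
    (repByAlgSpWith_iff_of_square (f' := inertiaToBase (toSelf 𝒰)) (f := fpFst h (inertiaToBase (toSelf 𝒳)))
      (a := inertiaLift h) (b := BasedFunctor.id _)
      (isEquivOver_inertiaLift h h𝒰 (exists_vert_preimage h𝒰 h𝒳 hdiag hgeo)) (isEquivOver_id _)
      (eqToIso (based_ext rfl))).1 (inertia_with_of_diag hsep)
  exact finite_of_proper_lqf hprop (repByAlgSpWith_fpFst h h2)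

end Groth.Agent.Stk19b
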