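import Groth.Agent.Stk19.AlgSt.Points
import Groth.Agent.Stk19.AlgSt.AlgMisc
import Groth.Agent.Stk19.AlgSt.Mono
import Groth.Agent.Stk19.AlgSt.UnramDiag
import Groth.Agent.Stk19.Inertia
import Groth.Prelude.Def_StGerb2
import Mathlib.AlgebraicGeometry.Morphisms.IsIso
import Mathlib.FieldTheory.IsAlgClosed.AlgebraicClosure

/-! A map with open diagonal which is surjective on automorphisms of geometric points is so on all objects. -/

set_option autoImplicit false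
set_option backward.isDefEq.respectTransparency false
set_option backward.isDefEq.respectTransparency.types false

universe u

open CategoryTheory CategoryTheory.Limits AlgebraicGeometry Opposite FibCat Groth.Agent.Stk19 Groth.Agent.Desc19

namespace Groth.Agent.Stk19b

variable {S : Scheme.{u}}

theorem isIso_of_openImm_surjective {F : AlgSp.Sp S} {U : Over S} (a : F ⟶ (AlgSp.yon S).obj U)
    (ha : AlgSp.RepWith @IsOpenImmersion a) (hs : Function.Surjective (AlgSp.Points.map a)) : IsIso a := by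
  obtain ⟨W, ⟨i⟩⟩ := scheme_of_repWith a ha
  obtain ⟨c, hc⟩ := (AlgSp.yon S).map_surjective (i.hom ≫ a)
  have h1 : IsOpenImmersion c.left := (AlgSp.repWith_yon_map_iff _ c).1 (by
    rw [hc]; exact (MorphismProperty.cancel_left_of_respectsIso _ i.hom a).2 ha)
  have h2 : Surjective c.left := (AlgSpLib.surjective_map_yon_map_iff c).1 fun x => by
    obtain ⟨z, rfl⟩ := hs x
    refine ⟨AlgSp.Points.map i.inv z, ?_⟩
    rw [hc, ← AlgSp.Points.map_comp, i.inv_hom_id_assoc]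
  have h3 : IsIso c.left := (isIso_iff_isOpenImmersion_and_surjective _).2 ⟨h1, h2⟩
  have : IsIso ((Over.forget S).map c) := h3
  have : IsIso c := isIso_of_reflects_iso c (Over.forget S)
  have : IsIso (i.hom ≫ a) := hc ▸ inferInstance
  exact IsIso.of_isIso_comp_left i.hom a

variable {𝒰 𝒳 : AlgSt.Cat S} {h : 𝒰 ⥤ᵇ 𝒳}

theorem exists_vert_preimage (h𝒰 : IsFibGrpd 𝒰.p) (h𝒳 : IsFibGrpd 𝒳.p)
    (hd : AlgSt.RepByAlgSpWith (AlgSp.RepWith @IsOpenImmersion) (FibCat.diag h))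
    (hgeo : ∀ (Ω : Type u) [Field Ω] [IsAlgClosed Ω] (t : Spec (CommRingCat.of Ω) ⟶ S)
      (u : 𝒰.p.Fiber (Over.mk t)), Function.Surjective (Gerb.autMap h u.1))
    (u : 𝒰.obj) (φ : h.obj u ⟶ h.obj u) (hφ : 𝒳.p.map φ = 𝟙 _) :
    ∃ ψ : u ⟶ u, 𝒰.p.map ψ = 𝟙 _ ∧ h.map ψ = φ := by
  have : IsIso (𝒳.p.map φ) := by rw [hφ]; infer_instance
  have := fibGrpd_isIso h𝒳 φ
  let U : Over S := 𝒰.p.obj u
  have hφv : 𝒳.p.IsHomLift (𝟙 (𝒰.p.obj u)) (asIso φ).hom :=
    vert_change 𝒳.p _ (vert_of_map_eq 𝒳.p (φ := (asIso φ).hom) (h := rfl) (by rw [asIso_hom, hφ]; simp)) (h.w_obj u)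
  let o : (fp h h).obj := fpMk u u (asIso φ) hφv
  have hfp := fibGrpd_fp h𝒰 h𝒰 h𝒳 h h
  obtain ⟨y, i, hi⟩ := exists_classifying hfp o (U := U) rfl
  obtain ⟨F, e, he, ha⟩ := hd U y
  set a := AlgSt.spMapOfOver (BasedFunctor.comp e (fpFst y (FibCat.diag h)))
  have hsur : Function.Surjective (AlgSp.Points.map a) := by
    intro z
    obtain ⟨t, rfl⟩ := (AlgSp.Points.schemeEquiv U).surjective z
    let κ := U.left.residueField t
    let Ω : Type u := AlgebraicClosure κ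
    let cΩ : Spec (CommRingCat.of Ω) ⟶ Spec κ := Spec.map (CommRingCat.ofHom (algebraMap κ Ω))
    let c : Spec (CommRingCat.of Ω) ⟶ U.left := cΩ ≫ U.left.fromSpecResidueField t
    let C : Over.mk (c ≫ U.hom) ⟶ U := Over.homMk c rfl
    obtain ⟨v, l, ev, hl⟩ := fibGrpd_lift h𝒰 u C
    obtain ⟨χ, ⟨hχ, hχl⟩, -⟩ := fibGrpd_fac h𝒳 (h.map l) (h.map l ≫ φ) (𝟙 _) (by
      rw [𝒳.p.map_comp, hφ, Category.id_comp, Category.comp_id])
    have : IsIso (𝒳.p.map χ) := by rw [hχ]; infer_instance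
    have := fibGrpd_isIso h𝒳 χ
    let α : Gerb.AutO (h.obj v) :=
      { hom := ⟨χ, vert_of_map_eq 𝒳.p (h := rfl) (by rw [hχ]; simp)⟩
        inv := ⟨inv χ, vert_of_map_eq 𝒳.p (h := rfl) (by rw [Functor.map_inv]; simp [hχ])⟩
        hom_inv_id := Functor.Fiber.hom_ext (IsIso.hom_inv_id χ)
        inv_hom_id := Functor.Fiber.hom_ext (IsIso.inv_hom_id χ) }
    obtain ⟨β, hβ⟩ := hgeo Ω (c ≫ U.hom) ⟨v, ev⟩ α
    have hβ' : h.map β.hom.1 = χ := congrArg (fun m => m.hom.1) hβ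
    have hβp : 𝒰.p.map β.hom.1 = 𝟙 _ := by
      have := β.hom.2
      simpa using map_eq_of_vert 𝒰.p (R := 𝒰.p.obj v) β.hom.1
    let m : (FibCat.diag h).obj v ⟶ o := fpHom (a := (FibCat.diag h).obj v) (b := o) l (β.hom.1 ≫ l) (by
      show h.map l ≫ φ = 𝟙 _ ≫ h.map (β.hom.1 ≫ l)
      rw [h.toFunctor.map_comp, hβ', hχl, Category.id_comp])
    let Q : AlgSt.FPt 𝒰 := { K := Ω, str := c ≫ U.hom, obj := v, lies := ev }
    have hpt : AlgSt.Points.map y (AlgSt.Points.ofChart (BasedFunctor.id _) t) =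
        AlgSt.Points.map (FibCat.diag h) (AlgSt.Points.mk Q) := by
      rw [← ofChart_eq_map, AlgSt.Points.map_mk]
      let R : (overCat U).obj := Over.mk C
      let r₁ : R ⟶ Over.mk (Over.homMk (U.left.fromSpecResidueField t) rfl :
          Over.mk (U.left.fromSpecResidueField t ≫ U.hom) ⟶ U) :=
        Over.homMk (Over.homMk cΩ (by simp [R, C, c])) (by ext; simp [R, C, c])
      let r₀ : y.obj R ⟶ o := y.map (toId R) ≫ i.hom
      obtain ⟨χ₂, -, -⟩ := fibGrpd_fac hfp m r₀ (eqToHom ((y.w_obj R).trans ev.symm)) (by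
        show eqToHom _ ≫ 𝒰.p.map l = (fp h h).p.map (y.map (toId R) ≫ i.hom)
        rw [(fp h h).p.map_comp, based_map y, map_eq_of_vert (fp h h).p (R := U) i.hom, hl]
        simp [R, toId])
      exact AlgSt.Points.sound ⟨{ K := Ω, str := c ≫ U.hom, obj := y.obj R, lies := y.w_obj R },
        y.map r₁, χ₂, trivial⟩
    obtain ⟨w, hw, -⟩ := exists_points_fp h𝒰 hfp (isFibGrpd_overCat U) (FibCat.diag h) y
      (AlgSt.Points.ofChart (BasedFunctor.id _) t) (AlgSt.Points.mk Q) hpt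
    obtain ⟨q, rfl⟩ := (points_bijective_of_equiv he).2 w
    obtain ⟨z, rfl⟩ := stPt_bijective.2 q
    rw [← points_map_comp, map_toOver_stPt, ofChart_id] at hw
    exact ⟨z, stPt_bijective.1 ((points_bijective_of_equiv (isEquivOver_toOverCat U)).1 hw)⟩
  have := isIso_of_openImm_surjective a ha hsur
  let σ₀ : overCat U ⥤ᵇ fp y (FibCat.diag h) :=
    BasedFunctor.comp (BasedFunctor.comp (AlgSt.ofOverCat _) (AlgSt.ofSpMap (inv a))) e
  obtain ⟨iF⟩ := spMapOfOver_iso (BasedFunctor.comp e (fpFst y (FibCat.diag h)))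
  have j : BasedFunctor.comp σ₀ (fpFst y (FibCat.diag h)) ≅ BasedFunctor.id (overCat U) :=
    (Stk.restr (BasedFunctor.comp (AlgSt.ofOverCat _) (AlgSt.ofSpMap (inv a))) _).mapIso iF ≪≫ eqToIso (by
      show BasedFunctor.comp (AlgSt.ofOverCat _) (BasedFunctor.comp
        (BasedFunctor.comp (AlgSt.ofSpMap (inv a)) (AlgSt.ofSpMap a)) (AlgSt.toOverCat _)) = _
      rw [ofSpMap_comp, IsIso.inv_hom_id, ofSpMap_id]
      rfl)
  let σ := BasedFunctor.comp σ₀ (fpSnd y (FibCat.diag h))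
  let js : BasedFunctor.comp σ (FibCat.diag h) ≅ y :=
    ((Stk.restr σ₀ _).mapIso (fpIso y (FibCat.diag h))).symm ≪≫ (postB _ y).mapIso j
  let o₀ : (overCat U).obj := Over.mk (𝟙 U)
  let K : (FibCat.diag h).obj (σ.obj o₀) ≅ o := appIso js o₀ ≪≫ i
  have hK : (fp h h).p.IsHomLift (𝟙 U) K.hom :=
    vert_comp (fp h h).p _ _ (based_vert js o₀) hi
  have e₁ : (fpFst h h).map K.hom = K.hom.hom.fst := rfl
  have hf₁ : 𝒰.p.IsHomLift (𝟙 U) K.hom.hom.fst :=
    BasedFunctor.preserves_isHomLift (fpFst h h) (𝟙 U) K.hom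
  have hf₂ : 𝒰.p.IsHomLift (𝟙 U) K.hom.hom.snd :=
    BasedFunctor.preserves_isHomLift (fpSnd h h) (𝟙 U) K.hom
  have := fibGrpd_isIso_vert h𝒰 (R := U) K.hom.hom.fst
  have w : h.map K.hom.hom.fst ≫ φ = 𝟙 _ ≫ h.map K.hom.hom.snd := K.hom.hom.w
  refine ⟨inv K.hom.hom.fst ≫ K.hom.hom.snd, ?_, ?_⟩
  · rw [𝒰.p.map_comp, Functor.map_inv]
    simp only [map_eq_of_vert 𝒰.p (R := U) K.hom.hom.fst, map_eq_of_vert 𝒰.p (R := U) K.hom.hom.snd]
    simp
  · rw [h.toFunctor.map_comp, Functor.map_inv, IsIso.inv_comp_eq]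
    exact (w.trans (Category.id_comp _)).symm

end Groth.Agent.Stk19b
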